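import Cfsg.Agent.H198.FC.DefsB
import Cfsg.Agent.H277.FC.SN
set_option linter.all false

-- part: H706/FC/Base
section
/-!
# S5764: extraspecial type normalizers in dimension 8 (helper706)

`Ah A` : the lifts of `A` to units of `R`.  `lemM` : if `g` normalizes `A`, `rank (g - 1) ≤ 2` and `w ≠ 0` lies in the
image of `g - 1` then `w` is an eigenvector of a non-scalar lift of an element of `A` (`r = 2`, `dim V = 8`).
-/

set_option autoImplicit false

namespace Cfsg.Agent.H706.FC

open Module Cfsg.Agent.H198.FC Cfsg.Agent.H277.FC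

universe u v

section lift

variable {K : Type u} [Field K] {V : Type v} [AddCommGroup V] [Module K V]

/-- the lifts of `A` to units of `R` -/
def Ah (A : Subgroup (Equiv.Perm (R K V))) : Subgroup (R K V)ˣ := A.comap (cj K V)

theorem mem_Ah {A : Subgroup (Equiv.Perm (R K V))} {x : (R K V)ˣ} : x ∈ Ah A ↔ cj K V x ∈ A := Iff.rfl

/-- scalar -/
def Sc (X : R K V) : Prop := ∃ c : K, X = c • (1 : R K V)

theorem Sc.comm {X : R K V} (h : Sc X) (Y : R K V) : X * Y = Y * X := by
  obtain ⟨c, rfl⟩ := h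
  exact smul_one_comm c Y

theorem sc_of_comm [Nontrivial V] {X : R K V} (h : ∀ Y, X * Y = Y * X) : Sc X := exists_smul_one X h

theorem cj_eq_one_iff [Nontrivial V] (x : (R K V)ˣ) : cj K V x = 1 ↔ Sc (x : R K V) := by
  constructor
  · intro h
    refine sc_of_comm fun Y => ?_
    have h1 := congrArg (fun f : Equiv.Perm (R K V) => f Y) h
    simp only [cj_apply, Equiv.Perm.one_apply] at h1
    have h2 := congrArg (fun Z => Z * (x : R K V)) h1
    simpa [mul_assoc] using h2
  · intro h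
    apply Equiv.ext
    intro Y
    rw [cj_apply, Equiv.Perm.one_apply, h.comm Y, mul_assoc, Units.mul_inv, mul_one]

/-- commuting inner automorphisms -/
theorem exists_zeta [Nontrivial V] {x y : (R K V)ˣ} (h : cj K V x * cj K V y = cj K V y * cj K V x) :
    ∃ ζ : K, (x : R K V) * y = ζ • ((y : R K V) * x) := by
  have h1 : cj K V (x * y * x⁻¹ * y⁻¹) = 1 := by
    rw [map_mul, map_mul, map_mul, map_inv, map_inv, h, mul_assoc (cj K V y), mul_inv_cancel, mul_one, mul_inv_cancel]
  obtain ⟨ζ, hζ⟩ := (cj_eq_one_iff _).1 h1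
  refine ⟨ζ, ?_⟩
  have h2 : ((x * y * x⁻¹ * y⁻¹ : (R K V)ˣ) : R K V) * ((y : R K V) * x) = (x : R K V) * y := by
    simp [mul_assoc]
  rw [← h2, hζ, smul_mul_assoc, one_mul]

theorem exists_sq [Nontrivial V] {x : (R K V)ˣ} (h : cj K V x ^ 2 = 1) :
    ∃ c : K, (x : R K V) * x = c • (1 : R K V) := by
  have h1 : cj K V (x * x) = 1 := by rw [map_mul, ← pow_two, h]
  exact (cj_eq_one_iff _).1 h1

theorem unit_ne_zero [Nontrivial V] (x : (R K V)ˣ) : (x : R K V) ≠ 0 := x.ne_zero

theorem unit_inj (x : (R K V)ˣ) {v : V} (h : (x : R K V) v = 0) : v = 0 := by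
  have h1 : ((x⁻¹ : (R K V)ˣ) : R K V) ((x : R K V) v) = v := by
    rw [← Module.End.mul_apply, Units.inv_mul, Module.End.one_apply]
  rw [← h1, h, map_zero]

theorem zeta_sq [Nontrivial V] {x y : (R K V)ˣ} {ζ c : K} (h : (x : R K V) * y = ζ • ((y : R K V) * x))
    (hc : (x : R K V) * x = c • (1 : R K V)) : ζ * ζ = 1 := by
  have hc0 : c ≠ 0 := by
    rintro rfl
    rw [zero_smul] at hc
    exact unit_ne_zero (x * x) hc
  have h1 : (x : R K V) * x * y = (ζ * ζ * c) • (y : R K V) := by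
    rw [mul_assoc, h, mul_smul_comm, ← mul_assoc, h, smul_mul_assoc, mul_assoc, hc, mul_smul_comm, mul_one,
      smul_smul, smul_smul, mul_assoc]
  rw [hc, smul_mul_assoc, one_mul] at h1
  have h2 : c = ζ * ζ * c := smul_left_injective K (unit_ne_zero y) h1
  have h3 : (ζ * ζ - 1) * c = 0 := by rw [sub_mul, one_mul, ← h2, sub_self]
  rcases mul_eq_zero.1 h3 with h4 | h4
  · exact sub_eq_zero.1 h4
  · exact absurd h4 hc0

variable {A : Subgroup (Equiv.Perm (R K V))}

/-- the lifts of `A` span `R` -/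
def Spn (A : Subgroup (Equiv.Perm (R K V))) : Prop :=
  Submodule.span K {X : R K V | ∃ x : (R K V)ˣ, (x : R K V) = X ∧ cj K V x ∈ A} = ⊤

theorem exists_not_comm [Nontrivial V] (hsp : Spn A) {X : R K V} (hX : ¬ Sc X) :
    ∃ y ∈ Ah A, X * (y : R K V) ≠ (y : R K V) * X := by
  by_contra hcon
  push Not at hcon
  apply hX
  refine sc_of_comm fun Y => ?_
  have hY : Y ∈ Submodule.span K {X : R K V | ∃ x : (R K V)ˣ, (x : R K V) = X ∧ cj K V x ∈ A} := by
    rw [hsp]; trivial
  induction hY using Submodule.span_induction with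
  | mem Z hZ =>
    obtain ⟨x, rfl, hx⟩ := hZ
    exact hcon x hx
  | zero => rw [mul_zero, zero_mul]
  | add Z Z' _ _ h1 h2 => rw [mul_add, add_mul, h1, h2]
  | smul a Z _ h1 => rw [mul_smul_comm, smul_mul_assoc, h1]

/-- **a non-scalar lift anticommutes with another lift** (`r = 2`) -/
theorem exists_anti [Nontrivial V] (hsp : Spn A) (hc : ∀ f ∈ A, ∀ g ∈ A, f * g = g * f) (hs : ∀ f ∈ A, f ^ 2 = 1)
    {x : (R K V)ˣ} (hx : x ∈ Ah A) (hx' : ¬ Sc (x : R K V)) :
    (2 : K) ≠ 0 ∧ ∃ y ∈ Ah A, (x : R K V) * y = - ((y : R K V) * x) := by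
  obtain ⟨y, hy, hxy⟩ := exists_not_comm hsp hx'
  obtain ⟨ζ, hζ⟩ := exists_zeta (hc _ hx _ hy)
  obtain ⟨c, hcx⟩ := exists_sq (hs _ hx)
  have h1 := zeta_sq hζ hcx
  have h2 : ζ ≠ 1 := by
    rintro rfl
    rw [one_smul] at hζ
    exact hxy hζ
  have h3 : ζ = -1 := by
    rcases mul_self_eq_one_iff.1 h1 with h | h
    · exact absurd h h2
    · exact h
  subst h3
  refine ⟨fun h => h2 ?_, y, hy, by rw [hζ, neg_smul, one_smul]⟩
  have h4 : (1 : K) + 1 = 0 := by rw [one_add_one_eq_two, h]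
  exact (eq_neg_of_add_eq_zero_left h4).symm

theorem finrank_map_unit (y : (R K V)ˣ) (E : Submodule K V) : finrank K (E.map (y : R K V)) = finrank K E :=
  (Submodule.equivMapOfInjective (y : R K V) (fun a b h => sub_eq_zero.1 (unit_inj y (by rw [map_sub, h, sub_self])))
    E).finrank_eq.symm

theorem mem_ker_sub {X : R K V} {l : K} {v : V} : v ∈ LinearMap.ker (X - l • (1 : R K V)) ↔ X v = l • v := by
  rw [LinearMap.mem_ker, LinearMap.sub_apply, sub_eq_zero]
  rfl

/-- conjugates of lifts by normalizing units -/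
theorem comm_mem {g b : (R K V)ˣ} (hg : ∀ f ∈ A, cj K V g * f * (cj K V g)⁻¹ ∈ A) (hb : b ∈ Ah A) :
    g * b * g⁻¹ * b⁻¹ ∈ Ah A := by
  rw [mem_Ah, map_mul, map_mul, map_mul, map_inv, map_inv]
  exact mul_mem (hg _ hb) (inv_mem hb)

variable [Module.Finite K V]

/-- a subspace moved off itself by an injective map -/
theorem two_mul_finrank_le {E : Submodule K V} (y : (R K V)ˣ) (h : E ⊓ E.map (y : R K V) = ⊥) :
    2 * finrank K E ≤ finrank K V := by
  have h1 := Submodule.finrank_sup_add_finrank_inf_eq E (E.map (y : R K V))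
  rw [h, finrank_bot, add_zero] at h1
  have h2 : finrank K (E.map (y : R K V)) = finrank K E := finrank_map_unit y E
  have h3 := Submodule.finrank_le (E ⊔ E.map (y : R K V))
  omega

/-- **the eigenspaces of a non-scalar lift have dimension `≤ n / 2`** -/
theorem finrank_eigen_le [Nontrivial V] (hsp : Spn A) (hc : ∀ f ∈ A, ∀ g ∈ A, f * g = g * f)
    (hs : ∀ f ∈ A, f ^ 2 = 1) {x : (R K V)ˣ} (hx : x ∈ Ah A) (hx' : ¬ Sc (x : R K V)) (l : K) :
    2 * finrank K (LinearMap.ker ((x : R K V) - l • (1 : R K V))) ≤ finrank K V := by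
  obtain ⟨h2, y, hy, hxy⟩ := exists_anti hsp hc hs hx hx'
  refine two_mul_finrank_le y ?_
  rw [eq_bot_iff]
  rintro v ⟨hv1, u, hu, rfl⟩
  have hv1 := mem_ker_sub.1 hv1
  have hu := mem_ker_sub.1 hu
  have h3 : (x : R K V) ((y : R K V) u) = - (l • (y : R K V) u) := by
    have h4 := LinearMap.congr_fun hxy u
    rw [Module.End.mul_apply, LinearMap.neg_apply, Module.End.mul_apply, hu, map_smul] at h4
    exact h4
  rw [h3] at hv1
  have h5 : (2 : K) • (l • (y : R K V) u) = 0 := by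
    rw [two_smul]
    nth_rewrite 1 [← hv1]
    rw [neg_add_cancel]
  rcases smul_eq_zero.1 h5 with h6 | h6
  · exact absurd h6 h2
  · rw [h6, neg_zero] at h3
    have h7 := unit_inj x h3
    rw [Submodule.mem_bot]
    exact h7

/-- **Lemma M** -/
theorem lemM (hn : finrank K V = 8) (hsp : Spn A) (hc : ∀ f ∈ A, ∀ g ∈ A, f * g = g * f)
    (hs : ∀ f ∈ A, f ^ 2 = 1) {g : (R K V)ˣ} (hg : ∀ f ∈ A, cj K V g * f * (cj K V g)⁻¹ ∈ A)
    (hr : finrank K (LinearMap.range ((g : R K V) - 1)) ≤ 2) {w : V} (hw : w ∈ LinearMap.range ((g : R K V) - 1))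
    (hw0 : w ≠ 0) : ∃ y ∈ Ah A, ¬ Sc (y : R K V) ∧ ∃ l : K, (y : R K V) w = l • w := by
  have : Nontrivial V := ⟨w, 0, hw0⟩
  have hrk := LinearMap.finrank_range_add_finrank_ker ((g : R K V) - 1)
  -- `g` is not scalar
  have hgs : ¬ Sc (g : R K V) := by
    rintro ⟨l, hl⟩
    by_cases h1 : l = 1
    · obtain ⟨z, hz⟩ := hw
      rw [hl, h1, one_smul, sub_self, LinearMap.zero_apply] at hz
      exact hw0 hz.symm
    · have h2 : LinearMap.ker ((g : R K V) - 1) = ⊥ := by
        rw [eq_bot_iff]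
        intro v hv
        rw [LinearMap.mem_ker, LinearMap.sub_apply, hl] at hv
        have h3 : (l - 1) • v = 0 := by
          rw [sub_smul, one_smul]
          exact hv
        rcases smul_eq_zero.1 h3 with h4 | h4
        · exact absurd (sub_eq_zero.1 h4) h1
        · rw [h4]; exact zero_mem _
      rw [h2, finrank_bot] at hrk
      omega
  -- `g` does not centralize `A`
  obtain ⟨b, hb, hcb⟩ : ∃ b ∈ Ah A, ¬ Sc ((g * b * g⁻¹ * b⁻¹ : (R K V)ˣ) : R K V) := by
    by_contra hcon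
    push Not at hcon
    obtain ⟨b, hb, hgb⟩ := exists_not_comm hsp hgs
    obtain ⟨ζ, hζ⟩ := hcon b hb
    have h1 : (g : R K V) * b = ζ • ((b : R K V) * g) := by
      have h2 : ((g * b * g⁻¹ * b⁻¹ : (R K V)ˣ) : R K V) * ((b : R K V) * g) = (g : R K V) * b := by
        simp [mul_assoc]
      rw [← h2, hζ, smul_mul_assoc, one_mul]
    have hζ1 : ζ ≠ 1 := by
      rintro rfl
      rw [one_smul] at h1
      exact hgb h1
    have h3 := two_mul_finrank_le (E := LinearMap.ker ((g : R K V) - 1)) b (by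
      rw [eq_bot_iff]
      rintro v ⟨hv1, u, hu, rfl⟩
      have hv2 : (g : R K V) ((b : R K V) u) = (b : R K V) u := by
        have := LinearMap.mem_ker.1 hv1
        rw [LinearMap.sub_apply, sub_eq_zero] at this
        exact this
      have hu2 : (g : R K V) u = u := by
        have := LinearMap.mem_ker.1 hu
        rw [LinearMap.sub_apply, sub_eq_zero] at this
        exact this
      have h4 := LinearMap.congr_fun h1 u
      rw [Module.End.mul_apply, LinearMap.smul_apply, Module.End.mul_apply, hu2, hv2] at h4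
      have h5 : (ζ - 1) • (b : R K V) u = 0 := by rw [sub_smul, one_smul, ← h4, sub_self]
      rcases smul_eq_zero.1 h5 with h6 | h6
      · exact absurd (sub_eq_zero.1 h6) hζ1
      · rw [h6]; exact zero_mem _)
    omega
  set c : (R K V)ˣ := g * b * g⁻¹ * b⁻¹ with hcdef
  have hcA : c ∈ Ah A := comm_mem hg hb
  have hle : LinearMap.range ((c : R K V) - 1) ≤
      LinearMap.range ((g : R K V) - 1) ⊔ (LinearMap.range ((g : R K V) - 1)).map (b : R K V) := by
    rintro _ ⟨v, rfl⟩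
    have h1 : (c : R K V) - 1 = ((g : R K V) - 1) * ((b : R K V) * (g⁻¹ : (R K V)ˣ) * (b⁻¹ : (R K V)ˣ)) -
        (b : R K V) * (((g : R K V) - 1) * ((g⁻¹ : (R K V)ˣ) * (b⁻¹ : (R K V)ˣ))) := by
      rw [hcdef]
      simp only [Units.val_mul, sub_mul, mul_sub, one_mul, ← mul_assoc]
      rw [mul_assoc (b : R K V) g, Units.mul_inv, mul_one, Units.mul_inv]
      abel
    rw [h1, LinearMap.sub_apply]
    refine sub_mem (Submodule.mem_sup_left ⟨_, rfl⟩) (Submodule.mem_sup_right ⟨_, ⟨_, rfl⟩, rfl⟩)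
  have h4 := finrank_eigen_le hsp hc hs hcA hcb 1
  rw [one_smul] at h4
  have h5 := LinearMap.finrank_range_add_finrank_ker ((c : R K V) - 1)
  have h6 : finrank K ↥(LinearMap.range ((g : R K V) - 1) ⊔ (LinearMap.range ((g : R K V) - 1)).map (b : R K V)) ≤ 4 := by
    have h7 := Submodule.finrank_add_le_finrank_add_finrank (LinearMap.range ((g : R K V) - 1))
      ((LinearMap.range ((g : R K V) - 1)).map (b : R K V))
    rw [finrank_map_unit] at h7
    omega
  have h8 := Submodule.eq_of_le_of_finrank_le hle (by omega)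
  have hwc : w ∈ LinearMap.range ((c : R K V) - 1) := by
    rw [h8]
    exact Submodule.mem_sup_left hw
  have h9 : 0 < finrank K (LinearMap.ker ((c : R K V) - 1)) := by
    have h10 : finrank K (LinearMap.range ((c : R K V) - 1)) ≤ 4 := by rw [h8]; exact h6
    omega
  obtain ⟨u, hu0⟩ := Module.finrank_pos_iff_exists_ne_zero.1 h9
  have hu : (c : R K V) (u : V) = u := by
    have := LinearMap.mem_ker.1 u.2
    rw [LinearMap.sub_apply, sub_eq_zero] at this
    exact this
  have hu0' : (u : V) ≠ 0 := fun h => hu0 (Subtype.ext h)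
  obtain ⟨μ, hμ⟩ := exists_sq (hs _ hcA)
  have hμ1 : (c : R K V) * c = 1 := by
    have h11 := LinearMap.congr_fun hμ (u : V)
    rw [Module.End.mul_apply, hu, hu, LinearMap.smul_apply, Module.End.one_apply] at h11
    have h12 : (μ - 1) • (u : V) = 0 := by rw [sub_smul, one_smul, ← h11, sub_self]
    rcases smul_eq_zero.1 h12 with h13 | h13
    · rw [hμ, sub_eq_zero.1 h13, one_smul]
    · exact absurd h13 hu0'
  refine ⟨c, hcA, hcb, -1, ?_⟩
  obtain ⟨z, rfl⟩ := hwc
  have h14 := LinearMap.congr_fun hμ1 z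
  rw [Module.End.mul_apply, Module.End.one_apply] at h14
  rw [LinearMap.sub_apply, Module.End.one_apply, map_sub, h14, neg_smul, one_smul, neg_sub]

end lift

end Cfsg.Agent.H706.FC
end

-- part: H706/FC/Tv
section
/-!
# S5764: transvections and the normalizer of `A` in dimension 8 (helper706)

`fixN` : `t = 1 + N` a transvection of the form (`N = φ ⊗ w` skew-adjoint), `w` not an eigenvector of a non-scalar lift
of an element of `A`; if `f ∈ RB b` and `t f(t)⁻¹` normalizes `A` then `f N = N`.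
-/

set_option autoImplicit false

namespace Cfsg.Agent.H706.FC

open Module Cfsg.Agent.H198.FC Cfsg.Agent.H277.FC

universe u v

section tv

variable {K : Type u} [Field K] {V : Type v} [AddCommGroup V] [Module K V]

theorem RP_map_one {f : Equiv.Perm (R K V)} (hf : f ∈ RP K V) : f 1 = 1 := by
  have h1 : f 1 * f (f.symm 1) = f (f.symm 1) := by rw [← hf.2, one_mul]
  rwa [Equiv.apply_symm_apply, mul_one] at h1

theorem RP_map_zero {f : Equiv.Perm (R K V)} (hf : f ∈ RP K V) : f 0 = 0 := by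
  have h1 := hf.1 0 0
  rw [add_zero] at h1
  simpa using h1

theorem RP_map_neg {f : Equiv.Perm (R K V)} (hf : f ∈ RP K V) (X : R K V) : f (-X) = - f X := by
  have h1 := hf.1 X (-X)
  rw [add_neg_cancel, RP_map_zero hf] at h1
  exact (neg_eq_of_add_eq_zero_right h1.symm).symm

theorem RP_map_sub {f : Equiv.Perm (R K V)} (hf : f ∈ RP K V) (X Y : R K V) : f (X - Y) = f X - f Y := by
  rw [sub_eq_add_neg, hf.1, RP_map_neg hf, ← sub_eq_add_neg]

/-- the image of a unit -/
def fu {f : Equiv.Perm (R K V)} (hf : f ∈ RP K V) (x : (R K V)ˣ) : (R K V)ˣ where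
  val := f x
  inv := f (x⁻¹ : (R K V)ˣ)
  val_inv := by rw [← hf.2, Units.mul_inv, RP_map_one hf]
  inv_val := by rw [← hf.2, Units.inv_mul, RP_map_one hf]

theorem fu_val {f : Equiv.Perm (R K V)} (hf : f ∈ RP K V) (x : (R K V)ˣ) : (fu hf x : R K V) = f x := rfl

theorem f_cj {f : Equiv.Perm (R K V)} (hf : f ∈ RP K V) (x : (R K V)ˣ) :
    f * cj K V x = cj K V (fu hf x) * f := by
  apply Equiv.ext
  intro X
  rw [Equiv.Perm.mul_apply, Equiv.Perm.mul_apply, cj_apply, cj_apply, hf.2, hf.2]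
  rfl

/-- `cj t * f * (cj t)⁻¹ ∈ S` and `f ∈ S` -/
theorem cj_mem_of {S : Subgroup (Equiv.Perm (R K V))} {f : Equiv.Perm (R K V)} (hf : f ∈ RP K V) (hfS : f ∈ S)
    {t : (R K V)ˣ} (h : cj K V t * f * (cj K V t)⁻¹ ∈ S) : cj K V (t * (fu hf t)⁻¹) ∈ S := by
  have h1 : cj K V (t * (fu hf t)⁻¹) = cj K V t * f * (cj K V t)⁻¹ * f⁻¹ := by
    rw [map_mul, map_inv]
    have h2 := f_cj hf t
    have h3 : cj K V (fu hf t) = f * cj K V t * f⁻¹ := by rw [h2, mul_inv_cancel_right]
    rw [h3]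
    group
  rw [h1]
  exact mul_mem h (inv_mem hfS)

/-- the unit `1 + N`, `N² = 0` -/
def uN (N : R K V) (h : N * N = 0) : (R K V)ˣ where
  val := 1 + N
  inv := 1 - N
  val_inv := by rw [mul_sub, mul_one, add_mul, one_mul, h, add_zero, add_sub_cancel_right]
  inv_val := by rw [mul_add, mul_one, sub_mul, one_mul, h, sub_zero, sub_add_cancel]

theorem uN_val (N : R K V) (h : N * N = 0) : (uN N h : R K V) = 1 + N := rfl

/-- a rank one skew-adjoint endomorphism -/
structure Nil (b : Cl K V) (N : R K V) (w : V) : Prop where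
  ex : ∃ φ : Dual K V, φ ≠ 0 ∧ ∀ v, N v = φ v • w
  w0 : w ≠ 0
  iso : b.B w w = 0
  adj : b.Adj N (-N)

variable {b : Cl K V}

theorem RB_le {f : Equiv.Perm (R K V)} (hf : f ∈ RB b) : f ∈ RP K V := hf.1

theorem RB_adj {f : Equiv.Perm (R K V)} (hf : f ∈ RB b) (X Y : R K V) : b.Adj X Y ↔ b.Adj (f X) (f Y) := hf.2 X Y

theorem B_zero_left (v : V) : b.B 0 v = 0 := by
  have h := b.add_left 0 0 v
  rw [add_zero] at h
  simpa using h

theorem B_zero_right (v : V) : b.B v 0 = 0 := by
  have h := b.add_right v 0 0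
  rw [add_zero] at h
  simpa using h

theorem B_neg_left (v w : V) : b.B (-v) w = - b.B v w := by
  have h := b.add_left v (-v) w
  rw [add_neg_cancel, B_zero_left] at h
  exact (neg_eq_of_add_eq_zero_right h.symm).symm

theorem B_neg_right (v w : V) : b.B v (-w) = - b.B v w := by
  have h := b.add_right v w (-w)
  rw [add_neg_cancel, B_zero_right] at h
  exact (neg_eq_of_add_eq_zero_right h.symm).symm

theorem B_sub_left (v v' w : V) : b.B (v - v') w = b.B v w - b.B v' w := by
  rw [sub_eq_add_neg, b.add_left, B_neg_left, ← sub_eq_add_neg]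

theorem B_sub_right (v w w' : V) : b.B v (w - w') = b.B v w - b.B v w' := by
  rw [sub_eq_add_neg, b.add_right, B_neg_right, ← sub_eq_add_neg]

/-- orthogonality is symmetric -/
theorem B_symm {v w : V} (h : b.B v w = 0) : b.B w v = 0 := by
  rcases b.typ with ⟨-, h1⟩ | ⟨-, h1⟩
  · rw [h1, h, map_zero]
  · have h2 := h1 (v + w)
    rw [b.add_left, b.add_right, b.add_right, h1, h1, zero_add, add_zero, h, zero_add] at h2
    exact h2

theorem nondeg_right {w : V} (h : ∀ v, b.B v w = 0) : w = 0 := b.nondeg w fun v => B_symm (h v)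

theorem exists_left {w : V} (hw : w ≠ 0) : ∃ v, b.B w v ≠ 0 := by
  by_contra hcon
  push Not at hcon
  exact hw (b.nondeg w hcon)

theorem exists_right {w : V} (hw : w ≠ 0) : ∃ v, b.B v w ≠ 0 := by
  by_contra hcon
  push Not at hcon
  exact hw (nondeg_right hcon)

/-- a rank one skew-adjoint map `v ↦ β v • w` is `α B(·, w) w` -/
theorem rank_one {M : R K V} {w : V} {β : V → K} (hw : w ≠ 0) (hM : ∀ v, M v = β v • w) (ha : b.Adj M (-M)) :
    ∃ α : K, ∀ v, β v = α * b.B v w := by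
  obtain ⟨u, hu⟩ := exists_left (b := b) hw
  refine ⟨- b.τ (β u) / b.B w u, fun v => ?_⟩
  have h1 := ha v u
  rw [hM, LinearMap.neg_apply, B_neg_right, hM, b.smul_left, b.smul_right] at h1
  rw [eq_comm, div_mul_eq_mul_div, div_eq_iff hu, h1]
  ring

/-- the difference of two different rank one skew-adjoint maps has the centre of the first in its image -/
theorem mem_range_sub {N M : R K V} {w w' : V} {φ β : V → K} (hw : w ≠ 0) (hw' : w' ≠ 0) (hN : ∀ v, N v = φ v • w)
    (hM : ∀ v, M v = β v • w') (ha : b.Adj N (-N)) (ha' : b.Adj M (-M)) (hN0 : N ≠ 0) (hNM : N ≠ M) :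
    w ∈ LinearMap.range (N - M) := by
  obtain ⟨α, hα⟩ := rank_one hw hN ha
  obtain ⟨α', hα'⟩ := rank_one hw' hM ha'
  have hα0 : α ≠ 0 := by
    rintro rfl
    apply hN0
    ext v
    rw [hN, hα, zero_mul, zero_smul, LinearMap.zero_apply]
  obtain ⟨v₀, hv₀⟩ := exists_right (b := b) hw
  by_cases hp : ∃ l : K, w' = l • w
  · obtain ⟨l, hl⟩ := hp
    have hM' : ∀ v, M v = (α' * b.τ l * l / α) • N v := by
      intro v
      rw [hM, hα', hN, hα, hl, b.smul_right, smul_smul, smul_smul]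
      congr 1
      field_simp
    set κ := α' * b.τ l * l / α with hκ
    have hκ1 : 1 - κ ≠ 0 := by
      intro h
      apply hNM
      ext v
      rw [hM' v, ← sub_eq_zero.1 h, one_smul]
    have h1 : φ v₀ ≠ 0 := by rw [hα]; exact mul_ne_zero hα0 hv₀
    refine ⟨((1 - κ) * φ v₀)⁻¹ • v₀, ?_⟩
    rw [LinearMap.sub_apply, hM', ← one_smul K (N _), smul_smul, mul_one, ← sub_smul, map_smul, hN, smul_smul,
      smul_smul]
    have h2 : (1 - κ) * ((1 - κ) * φ v₀)⁻¹ * φ v₀ = 1 := by field_simp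
    rw [h2, one_smul]
  · obtain ⟨v, hv1, hv2⟩ : ∃ v, b.B v w' = 0 ∧ b.B v w ≠ 0 := by
      by_contra hcon
      push Not at hcon
      obtain ⟨v₁, hv₁⟩ := exists_right (b := b) hw'
      have h1 : ∀ v, b.B v w = b.B v₁ w / b.B v₁ w' * b.B v w' := by
        intro v
        have h2 := hcon (v - (b.B v w' / b.B v₁ w') • v₁) (by
          rw [B_sub_left, b.smul_left, div_mul_cancel₀ _ hv₁, sub_self])
        rw [B_sub_left, b.smul_left, sub_eq_zero] at h2
        rw [h2]
        ring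
      set κ := b.B v₁ w / b.B v₁ w' with hκ
      have h3 : w - b.τ κ • w' = 0 := nondeg_right (b := b) fun v => by
        rw [B_sub_right, b.smul_right, b.invol, h1 v, sub_self]
      have h4 : w = b.τ κ • w' := sub_eq_zero.1 h3
      have h5 : b.τ κ ≠ 0 := by
        intro h
        rw [h, zero_smul] at h4
        exact hw h4
      exact hp ⟨(b.τ κ)⁻¹, by rw [h4, smul_smul, inv_mul_cancel₀ h5, one_smul]⟩
    refine ⟨(φ v)⁻¹ • v, ?_⟩
    have h1 : φ v ≠ 0 := by rw [hα]; exact mul_ne_zero hα0 hv2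
    have h2 : β v = 0 := by rw [hα', hv1, mul_zero]
    rw [map_smul, LinearMap.sub_apply, hN, hM, h2, zero_smul, sub_zero, smul_smul, inv_mul_cancel₀ h1, one_smul]

theorem finrank_range_le_two [Module.Finite K V] {X : R K V} {w w' : V} (h : ∀ v, ∃ a c : K, X v = a • w + c • w') :
    finrank K (LinearMap.range X) ≤ 2 := by
  have h1 : LinearMap.range X ≤ Submodule.span K {w} ⊔ Submodule.span K {w'} := by
    rintro _ ⟨v, rfl⟩
    obtain ⟨a, c, hac⟩ := h v
    rw [hac]
    exact add_mem (Submodule.mem_sup_left (Submodule.smul_mem _ _ (Submodule.mem_span_singleton_self w)))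
      (Submodule.mem_sup_right (Submodule.smul_mem _ _ (Submodule.mem_span_singleton_self w')))
  have h2 := Submodule.finrank_mono h1
  have h3 := Submodule.finrank_add_le_finrank_add_finrank (Submodule.span K {w}) (Submodule.span K {w'})
  have h4 := finrank_span_finset_le_card (R := K) ({w} : Finset V)
  have h5 := finrank_span_finset_le_card (R := K) ({w'} : Finset V)
  rw [Finset.coe_singleton, Finset.card_singleton] at h4 h5
  rw [Set.finrank] at h4 h5
  omega

theorem Nil.sq {N : R K V} {w : V} (h : Nil b N w) : N * N = 0 := by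
  obtain ⟨φ, hφ0, hφ⟩ := h.ex
  obtain ⟨α, hα⟩ := rank_one (β := φ) h.w0 hφ h.adj
  ext v
  rw [Module.End.mul_apply, hφ (N v), hφ v, map_smul, smul_eq_mul, hα w, h.iso, mul_zero, mul_zero, zero_smul]
  rfl

theorem Nil.ne_zero {N : R K V} {w : V} (h : Nil b N w) : N ≠ 0 := by
  obtain ⟨φ, hφ0, hφ⟩ := h.ex
  rintro rfl
  apply hφ0
  ext v
  have h1 := hφ v
  rw [LinearMap.zero_apply] at h1
  rcases smul_eq_zero.1 h1.symm with h2 | h2
  · rw [h2]; rfl
  · exact absurd h2 h.w0

variable [Module.Finite K V] {A : Subgroup (Equiv.Perm (R K V))}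

/-- **the key step** -/
theorem fixN (hn : finrank K V = 8) (hsp : Spn A) (hc : ∀ f ∈ A, ∀ g ∈ A, f * g = g * f)
    (hs : ∀ f ∈ A, f ^ 2 = 1) {N : R K V} {w : V} (hN : Nil b N w)
    (hw : ∀ y ∈ Ah A, (∃ l : K, (y : R K V) w = l • w) → Sc (y : R K V)) {f : Equiv.Perm (R K V)} (hf : f ∈ RB b)
    (hg : ∀ a ∈ A, cj K V (uN N hN.sq * (fu (RB_le hf) (uN N hN.sq))⁻¹) * a *
      (cj K V (uN N hN.sq * (fu (RB_le hf) (uN N hN.sq))⁻¹))⁻¹ ∈ A) : f N = N := by
  by_contra hne
  obtain ⟨φ, hφ0, hφ⟩ := hN.ex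
  have hfP := RB_le hf
  obtain ⟨h, hh, hfh⟩ := stmtSN K V (by omega) f hfP
  obtain ⟨hadd, σ, hσ⟩ := hh
  have hfN : ∀ v, f N v = σ (φ (h.symm v)) • h w := by
    intro v
    obtain ⟨v', rfl⟩ := h.surjective v
    rw [hfh, hφ, hσ, Equiv.symm_apply_apply]
  have hw' : h w ≠ 0 := by
    intro h0
    have h1 : h 0 = 0 := by
      have := hadd 0 0
      rw [add_zero] at this
      simpa using this
    exact hN.w0 (h.injective (h0.trans h1.symm))
  have hadj : b.Adj (f N) (-(f N)) := by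
    have h1 := (RB_adj hf N (-N)).1 hN.adj
    rwa [RP_map_neg hfP] at h1
  have h2 := mem_range_sub hN.w0 hw' hφ hfN hN.adj hadj hN.ne_zero (Ne.symm hne)
  set t := uN N hN.sq with ht
  have hR : LinearMap.range ((t * (fu hfP t)⁻¹ : (R K V)ˣ) - 1 : R K V) = LinearMap.range (N - f N) := by
    have h3 : ((t * (fu hfP t)⁻¹ : (R K V)ˣ) : R K V) - 1 = (N - f N) * ((fu hfP t)⁻¹ : (R K V)ˣ) := by
      have h4 : N - f N = (t : R K V) - (fu hfP t : R K V) := by
        rw [fu_val, ht, uN_val, hfP.1, RP_map_one hfP]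
        abel
      rw [h4, sub_mul, Units.mul_inv, Units.val_mul]
    rw [h3]
    ext v
    constructor
    · rintro ⟨u, rfl⟩
      exact ⟨_, rfl⟩
    · rintro ⟨u, rfl⟩
      refine ⟨(fu (RB_le hf) t : R K V) u, ?_⟩
      rw [← Module.End.mul_apply, mul_assoc, Units.inv_mul, mul_one]
  obtain ⟨y, hy, hys, hyw⟩ := lemM (w := w) hn hsp hc hs hg (by
    rw [hR]
    refine finrank_range_le_two (w := w) (w' := h w) fun v => ⟨φ v, - σ (φ (h.symm v)), ?_⟩
    rw [LinearMap.sub_apply, hφ, hfN, neg_smul, sub_eq_add_neg]) (by rw [hR]; exact h2) hN.w0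
  exact hys (hw y hy hyw)

end tv

end Cfsg.Agent.H706.FC
end
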